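import Mathlib
import Cfsg.Agent.H622.Over
import Cfsg.Agent.H424.CentBound
import Cfsg.Agent.H686.CharKit
import Cfsg.Agent.H620.RIM.Nb
import Cfsg.Agent.H570.Ore.Blk_m3
import Cfsg.Agent.H894.J4TwoMain_m3
import Cfsg.Agent.H639.Cen
import Cfsg.Agent.FastGrp
import Cfsg.Agent.Prune
set_option linter.all false

section
prune_inst 0x7f00000000000000000000000000000000000000000000000000000000000000000000000000000000000000000000000000000000000000000000000000000000000000000000000000000000000000003fffffffffffffffffffffffffffbeffbdfbfeffff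

-- part: H382/RIM/Tool
section
set_option linter.all false
open scoped Cfsg.Agent.FastGrp

/-!
# Characters over a linear character of a central subgroup: column orthogonality (S4816, helper382)

* `sum_over` : `∑_{χ over c} χ(g) conj χ(h)`;
* `sum_normSq_over` : `∑_{χ over c} |χ(g)|² = |C_G(g)| / |N|`, if `g n ~ g` only for `n = 1`;
* `card_over_le` : if all characters over `c` have degree prime to `p`, their number is at most
  `|C_G(x)| / |N|` for every `p`-element `x`;
* `three_dvd_card_over` : for `p = 3` their number is divisible by 3.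
-/

set_option autoImplicit false

namespace Cfsg.Agent.H382.RIM

open Cfsg Cfsg.Agent.Characters.Core Cfsg.Agent.H622.Over
open scoped ComplexConjugate

universe u

variable {G : Type u} [Group G]

theorem sum_hom_mul_conj {N : Subgroup G} [Finite G] [Fintype N] (c d : N →* ℂˣ) [Decidable (d = c)] :
    ∑ n : N, (d n : ℂ) * conj (c n : ℂ) = if d = c then (Nat.card N : ℂ) else 0 := by
  split_ifs with h
  · subst h
    rw [Finset.sum_congr rfl fun n _ => hom_mul_conj d n]
    simp [Nat.card_eq_fintype_card]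
  · obtain ⟨m, hm⟩ : ∃ m : N, d m ≠ c m := by
      by_contra hcon
      push Not at hcon
      exact h (MonoidHom.ext hcon)
    have h1 : ∑ n : N, (d n : ℂ) * conj (c n : ℂ) =
        ((d m : ℂ) * conj (c m : ℂ)) * ∑ n : N, (d n : ℂ) * conj (c n : ℂ) := by
      refine (Equiv.sum_comp (Equiv.mulLeft m) (fun n : N => (d n : ℂ) * conj (c n : ℂ))).symm.trans ?_
      rw [Finset.mul_sum]
      refine Finset.sum_congr rfl fun n _ => ?_
      simp only [Equiv.coe_mulLeft, map_mul, Units.val_mul]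
      ring
    have h2 : (d m : ℂ) * conj (c m : ℂ) ≠ 1 := by
      intro h3
      apply hm
      rw [conj_hom, map_inv, ← Units.val_mul] at h3
      exact mul_inv_eq_one.1 (Units.ext h3)
    by_contra h0
    apply h2
    have h3 : (1 - (d m : ℂ) * conj (c m : ℂ)) * ∑ n : N, (d n : ℂ) * conj (c n : ℂ) = 0 := by
      rw [sub_mul, one_mul, ← h1, sub_self]
    rcases mul_eq_zero.1 h3 with h4 | h4
    · exact (sub_eq_zero.1 h4).symm
    · exact absurd h4 h0

/-- projection to the characters over `c` -/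
theorem ite_lies [Finite G] {N : Subgroup G} [Fintype N] (hN : N ≤ Subgroup.center G) (c : N →* ℂˣ)
    (χ : IrrCharacter G) (g : G) [Decidable (Lies N c (χ : G → ℂ))] :
    (if Lies N c (χ : G → ℂ) then (χ : G → ℂ) g else 0) =
      (Nat.card N : ℂ)⁻¹ * ∑ n : N, (χ : G → ℂ) (g * n) * conj (c n : ℂ) := by
  classical
  have hN0 : (Nat.card N : ℂ) ≠ 0 := by exact_mod_cast Nat.card_pos.ne'
  obtain ⟨d, hd⟩ := exists_hom hN χ.2
  have h1 : ∑ n : N, (χ : G → ℂ) (g * n) * conj (c n : ℂ) =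
      (χ : G → ℂ) g * ∑ n : N, (d n : ℂ) * conj (c n : ℂ) := by
    rw [Finset.mul_sum]
    refine Finset.sum_congr rfl fun n _ => ?_
    rw [hd g n]; ring
  rw [h1, sum_hom_mul_conj]
  by_cases h : d = c
  · subst h
    rw [if_pos hd, if_pos rfl]
    field_simp
  · rw [if_neg h, mul_zero, mul_zero, if_neg]
    intro hc
    apply h
    refine MonoidHom.ext fun n => Units.ext ?_
    have h2 := hd 1 n
    rw [hc 1 n] at h2
    exact (mul_left_cancel₀ (isIrr_apply_one_ne_zero χ.2) h2).symm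

open Classical in
/-- the irreducible characters over `c` -/
noncomputable def ov [Fintype (IrrCharacter G)] (N : Subgroup G) (c : N →* ℂˣ) : Finset (IrrCharacter G) :=
  Finset.univ.filter fun χ : IrrCharacter G => Lies N c (χ : G → ℂ)

theorem mem_ov [Fintype (IrrCharacter G)] {N : Subgroup G} {c : N →* ℂˣ} {χ : IrrCharacter G} :
    χ ∈ ov N c ↔ Lies N c (χ : G → ℂ) := by
  classical
  unfold ov
  rw [Finset.mem_filter]
  exact ⟨fun h => h.2, fun h => ⟨Finset.mem_univ _, h⟩⟩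

theorem card_ov [Fintype (IrrCharacter G)] (N : Subgroup G) (c : N →* ℂˣ) :
    Nat.card {χ : IrrCharacter G // Lies N c (χ : G → ℂ)} = (ov N c).card := by
  classical
  rw [Nat.card_eq_fintype_card, Fintype.card_subtype]
  unfold ov
  congr

/-- column orthogonality over `c` -/
theorem sum_over [Finite G] {N : Subgroup G} [Fintype N] (hN : N ≤ Subgroup.center G) (c : N →* ℂˣ)
    [Fintype (IrrCharacter G)]
    [∀ a b : G, Decidable (IsConj a b)] (g h : G) :
    ∑ χ ∈ ov N c, (χ : G → ℂ) g * conj ((χ : G → ℂ) h) =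
      (Nat.card N : ℂ)⁻¹ * ∑ n : N, conj (c n : ℂ) *
        (if IsConj (g * n) h then (Nat.card (Subgroup.centralizer ({h} : Set G)) : ℂ) else 0) := by
  classical
  unfold ov
  rw [Finset.sum_filter]
  have h1 : ∀ χ : IrrCharacter G, (if Lies N c (χ : G → ℂ) then
      (χ : G → ℂ) g * conj ((χ : G → ℂ) h) else 0) =
      (Nat.card N : ℂ)⁻¹ * ∑ n : N, conj (c n : ℂ) * ((χ : G → ℂ) (g * n) * conj ((χ : G → ℂ) h)) := by
    intro χ
    have h2 : (if Lies N c (χ : G → ℂ) then (χ : G → ℂ) g * conj ((χ : G → ℂ) h) else 0) =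
        (if Lies N c (χ : G → ℂ) then (χ : G → ℂ) g else 0) * conj ((χ : G → ℂ) h) := by
      split_ifs <;> simp
    rw [h2, ite_lies hN c χ g, mul_assoc, Finset.sum_mul]
    congr 1
    exact Finset.sum_congr rfl fun n _ => by ring
  rw [Finset.sum_congr rfl fun χ _ => h1 χ, ← Finset.mul_sum, Finset.sum_comm]
  congr 1
  refine Finset.sum_congr rfl fun n _ => ?_
  rw [← Finset.mul_sum, Cfsg.Agent.H686.CharKit.col_orth]

/-- `∑_{χ over c} |χ(g)|² = |C_G(g)| / |N|` -/
theorem sum_normSq_over [Finite G] {N : Subgroup G} (hN : N ≤ Subgroup.center G) (c : N →* ℂˣ)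
    [Fintype (IrrCharacter G)]
    (g : G) (hg : ∀ n : N, IsConj (g * n) g → n = 1) :
    (Nat.card N : ℝ) * ∑ χ ∈ ov N c, ‖(χ : G → ℂ) g‖ ^ 2 =
      (Nat.card (Subgroup.centralizer ({g} : Set G)) : ℝ) := by
  classical
  have := Fintype.ofFinite N
  have hN0 : (Nat.card N : ℂ) ≠ 0 := by exact_mod_cast Nat.card_pos.ne'
  have h1 := sum_over hN c g g
  rw [Finset.sum_eq_single (1 : N)] at h1
  · have e1 : IsConj (g * ((1 : N) : G)) g := by rw [Subgroup.coe_one, mul_one]
    rw [if_pos e1, map_one, Units.val_one, map_one, one_mul] at h1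
    have h2 : (((Nat.card N : ℝ) * ∑ χ ∈ ov N c, ‖(χ : G → ℂ) g‖ ^ 2 : ℝ) : ℂ) =
        ((Nat.card (Subgroup.centralizer ({g} : Set G)) : ℝ) : ℂ) := by
      push_cast
      have h3 : ∑ χ ∈ ov N c, ((‖(χ : G → ℂ) g‖ : ℂ)) ^ 2 =
          (Nat.card N : ℂ)⁻¹ * (Nat.card (Subgroup.centralizer ({g} : Set G)) : ℂ) := by
        rw [← h1]
        refine Finset.sum_congr rfl fun χ _ => ?_
        rw [Complex.mul_conj, Complex.normSq_eq_norm_sq]
        push_cast
        rfl
      rw [h3, ← mul_assoc, mul_inv_cancel₀ hN0, one_mul]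
    exact_mod_cast h2
  · intro n _ hn
    rw [if_neg fun h => hn (hg n h), mul_zero]
  · intro h
    exact absurd (Finset.mem_univ _) h

/-- elements of order prime to `|N|` -/
theorem eq_one_of_isConj {N : Subgroup G} [Finite N] (hN : N ≤ Subgroup.center G) {g : G} {k : ℕ}
    (hg : g ^ k = 1) (hk : k.Coprime (Nat.card N)) {n : N} (h : IsConj (g * n) g) : n = 1 := by
  obtain ⟨x, hx⟩ := isConj_iff.1 h
  have hc : ∀ y : G, y * n = n * y := fun y => Subgroup.mem_center_iff.1 (hN n.2) y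
  have h1 : (g * n) ^ k = 1 := by
    have h2 : (x * (g * n) * x⁻¹) ^ k = 1 := by rw [hx, hg]
    rw [conj_pow] at h2
    exact conj_eq_one_iff.1 h2
  rw [Commute.mul_pow (hc g), hg, one_mul] at h1
  have h2 : n ^ k = 1 := Subtype.ext (by rw [Subgroup.coe_pow, h1, Subgroup.coe_one])
  have h3 : n ^ Nat.card N = 1 := pow_card_eq_one'
  have h4 := Nat.dvd_gcd (orderOf_dvd_of_pow_eq_one h2) (orderOf_dvd_of_pow_eq_one h3)
  rw [hk] at h4
  exact orderOf_eq_one_iff.1 (Nat.dvd_one.1 h4)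

/-- `∑_{χ over c} χ(1)² = |G| / |N|` -/
theorem sum_deg_over [Finite G] {N : Subgroup G} (hN : N ≤ Subgroup.center G) (c : N →* ℂˣ)
    [Fintype (IrrCharacter G)] [DecidablePred fun χ : IrrCharacter G => Lies N c (χ : G → ℂ)] :
    Nat.card N * ∑ χ ∈ ov N c, charDegree (χ : G → ℂ) ^ 2 =
      Nat.card G := by
  have h := sum_normSq_over hN c (1 : G) (fun n hn => eq_one_of_isConj hN (one_pow 1)
    (Nat.coprime_one_left _) hn)
  have e : Subgroup.centralizer ({(1 : G)} : Set G) = ⊤ := by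
    rw [Subgroup.centralizer_eq_top_iff_subset]
    intro x hx
    rw [Set.mem_singleton_iff.1 hx]
    exact one_mem _
  rw [e, Nat.card_congr Subgroup.topEquiv.toEquiv] at h
  have h2 : ∑ χ ∈ ov N c, ‖(χ : G → ℂ) 1‖ ^ 2 =
      ((∑ χ ∈ ov N c, charDegree (χ : G → ℂ) ^ 2 : ℕ) : ℝ) := by
    push_cast
    refine Finset.sum_congr rfl fun χ _ => ?_
    rw [Blocks.Basic.irr_one_eq_charDegree χ.2, Complex.norm_natCast]
  rw [h2] at h
  exact_mod_cast h

/-- `p = 3`: the number of characters over `c` is divisible by 3 -/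
theorem three_dvd_card_over [Finite G] {N : Subgroup G} (hN : N ≤ Subgroup.center G) (c : N →* ℂˣ)
    (h3 : 3 ∣ Nat.card G) (hN3 : ¬ 3 ∣ Nat.card N)
    (hS : ∀ χ : IrrCharacter G, Lies N c (χ : G → ℂ) → ¬ 3 ∣ charDegree (χ : G → ℂ)) :
    3 ∣ Nat.card {χ : IrrCharacter G // Lies N c (χ : G → ℂ)} := by
  classical
  have := finite_irr (G := G)
  have := Fintype.ofFinite (IrrCharacter G)
  have h := sum_deg_over hN c
  have h1 : 3 ∣ ∑ χ ∈ ov N c, charDegree (χ : G → ℂ) ^ 2 := by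
    rw [← h] at h3
    exact (Nat.prime_three.dvd_mul.1 h3).resolve_left hN3
  rw [card_ov]
  have h2 : (∑ χ ∈ ov N c, charDegree (χ : G → ℂ) ^ 2) % 3 =
      (∑ χ ∈ ov N c, 1) % 3 := by
    rw [Finset.sum_nat_mod, Finset.sum_nat_mod (f := fun _ => 1)]
    congr 1
    refine Finset.sum_congr rfl fun χ hχ => ?_
    have h4 := hS χ (mem_ov.1 hχ)
    rw [Nat.dvd_iff_mod_eq_zero] at h4
    rw [Nat.pow_mod]
    have : charDegree (χ : G → ℂ) % 3 < 3 := Nat.mod_lt _ (by norm_num)
    interval_cases (charDegree (χ : G → ℂ) % 3)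
    · exact absurd rfl h4
    · rfl
    · rfl
  rw [Finset.card_eq_sum_ones]
  exact Nat.dvd_of_mod_eq_zero (by rw [← h2]; exact Nat.mod_eq_zero_of_dvd h1)

end Cfsg.Agent.H382.RIM
end

-- part: H535/RIM/Ov2
section
set_option linter.all false
open scoped Cfsg.Agent.FastGrp

-- part: H535/RIM/Ov
section
/-!
# Columns over a linear character of a central subgroup (helper535, S4816)

`Z` central, `c : Z →* ℂˣ`, `ov Z c` the irreducible characters over `c` (helper382).
* `Lin Z W` : the integer valued `W` on `Irr G` is a combination of values at elements of order prime to `|Z|`;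
* `Lin.sum_mul` : `|Z| * ∑_{χ over c} W χ * W' χ = ∑_χ W χ * W' χ`;
* `lin_deg`, `lin_val`, `lin_col` : the degrees, the values at an element, the columns of `H653.Sieve`;
* `exists_col` : the column of a prime `p` dividing `|G / Z|` once.
-/

set_option autoImplicit false
set_option linter.unusedSectionVars false

open Cfsg Subgroup
open scoped ComplexConjugate

namespace Cfsg.Agent.H535.RIM

open Cfsg.Agent.Characters.Core Cfsg.Agent.H622.Over Cfsg.Agent.H382.RIM
open Cfsg.Agent.H653.Sieve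
open Cfsg.Agent.SmallSimple.ThetaSetup Cfsg.Agent.SmallSimple.ThetaOrtho
open Cfsg.Agent.SmallSimple.TheoremC Cfsg.Agent.SmallSimple.TheoremCCor
open Cfsg.Agent.SmallSimple.PrimeDual Cfsg.Agent.SmallSimple.ThetaCount

universe u

variable {G : Type u} [Group G] [Finite G]

/-- combination of values at elements of order prime to `|Z|` -/
def Lin (Z : Subgroup G) (W : IrrCharacter G → ℤ) : Prop :=
  ∃ (S : Finset G) (f : G → ℂ), (∀ g ∈ S, (orderOf g).Coprime (Nat.card Z)) ∧
    ∀ χ : IrrCharacter G, (W χ : ℂ) = ∑ g ∈ S, f g * (χ : G → ℂ) g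

theorem lin_val {Z : Subgroup G} {g : G} (hg : (orderOf g).Coprime (Nat.card Z)) {A : IrrCharacter G → ℤ}
    (hA : ∀ χ : IrrCharacter G, (χ : G → ℂ) g = A χ) : Lin Z A := by
  refine ⟨{g}, fun _ => 1, fun h hh => ?_, fun χ => ?_⟩
  · rw [Finset.mem_singleton.1 hh]
    exact hg
  · rw [Finset.sum_singleton, one_mul, hA]

section

variable [Fintype (IrrCharacter G)]

theorem lin_deg (Z : Subgroup G) : Lin Z fun χ : IrrCharacter G => (deg χ : ℤ) := by
  refine ⟨{1}, fun _ => 1, fun g hg => ?_, fun χ => ?_⟩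
  · rw [Finset.mem_singleton.1 hg, orderOf_one]
    exact Nat.coprime_one_left _
  · rw [Finset.sum_singleton, one_mul, deg_cast]
    push_cast
    rfl

theorem lin_col {p : ℕ} [hp : Fact p.Prime] {Z : Subgroup G} (hZp : ¬ p ∣ Nat.card Z) {P : Sylow p G}
    (hP : Nat.card P = p) {e : ℕ} (he : e ≠ 0) {W : IrrCharacter G → ℤ} (hW : IsCol (P : Subgroup G) e W) :
    Lin Z W := by
  obtain ⟨S, f, h1, h2⟩ := H653.Sys.supp_of_isCol hP he hW
  refine ⟨S, f, fun g hg => ?_, h1⟩
  rw [List.mem_singleton.1 (h2 g hg)]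
  exact (Nat.Prime.coprime_iff_not_dvd hp.out).2 hZp

/-- the column orthogonality over `c` for elements of order prime to `|Z|` -/
theorem pair {Z : Subgroup G} (hZ : Z ≤ center G) (c : Z →* ℂˣ) {g h : G} (hg : (orderOf g).Coprime (Nat.card Z))
    (hh : (orderOf h).Coprime (Nat.card Z)) :
    (Nat.card Z : ℂ) * ∑ χ ∈ ov Z c, (χ : G → ℂ) g * conj ((χ : G → ℂ) h) =
      ∑ χ : IrrCharacter G, (χ : G → ℂ) g * conj ((χ : G → ℂ) h) := by
  classical
  have := Fintype.ofFinite Z
  have hN0 : (Nat.card Z : ℂ) ≠ 0 := by exact_mod_cast Nat.card_pos.ne'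
  rw [sum_over hZ c g h, ← mul_assoc, mul_inv_cancel₀ hN0, one_mul, H686.CharKit.col_orth,
    Finset.sum_eq_single (1 : Z)]
  · rw [Subgroup.coe_one, mul_one, map_one, Units.val_one, map_one, one_mul]
  · intro n _ hn
    rw [if_neg, mul_zero]
    intro hc
    apply hn
    have hcn : Commute g (n : G) := mem_center_iff.1 (hZ n.2) g
    have h1 : (g * n) ^ (orderOf g * orderOf h) = 1 := by
      obtain ⟨x, hx⟩ := isConj_iff.1 hc
      have h2 : (x * (g * n) * x⁻¹) ^ (orderOf g * orderOf h) = 1 := by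
        rw [hx, mul_comm, pow_mul, pow_orderOf_eq_one, one_pow]
      rw [conj_pow] at h2
      exact conj_eq_one_iff.1 h2
    rw [hcn.mul_pow, pow_mul g, pow_orderOf_eq_one, one_pow, one_mul] at h1
    have h2 : n ^ (orderOf g * orderOf h) = 1 := Subtype.ext (by rw [Subgroup.coe_pow, h1, Subgroup.coe_one])
    have h3 := orderOf_dvd_of_pow_eq_one h2
    have h4 : orderOf n ∣ Nat.card Z := orderOf_dvd_natCard n
    exact orderOf_eq_one_iff.1 (Nat.eq_one_of_dvd_coprimes (Nat.Coprime.mul_left hg hh) h3 h4)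
  · intro hn
    exact absurd (Finset.mem_univ _) hn

/-- **the sums over `c`** -/
theorem Lin.sum_mul {Z : Subgroup G} (hZ : Z ≤ center G) (c : Z →* ℂˣ) {W W' : IrrCharacter G → ℤ}
    (hW : Lin Z W) (hW' : Lin Z W') :
    (Nat.card Z : ℤ) * ∑ χ ∈ ov Z c, W χ * W' χ = ∑ χ, W χ * W' χ := by
  classical
  obtain ⟨S, f, hS, hf⟩ := hW
  obtain ⟨S', f', hS', hf'⟩ := hW'
  have h1 : ∀ χ : IrrCharacter G, ((W χ * W' χ : ℤ) : ℂ) =
      ∑ g ∈ S, ∑ h ∈ S', f g * conj (f' h) * ((χ : G → ℂ) g * conj ((χ : G → ℂ) h)) := by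
    intro χ
    have h2 : ((W' χ : ℤ) : ℂ) = ∑ h ∈ S', conj (f' h) * conj ((χ : G → ℂ) h) := by
      have h3 := congrArg conj (hf' χ)
      rw [map_sum] at h3
      simp only [map_mul, map_intCast] at h3
      exact h3
    push_cast
    rw [hf χ, h2, Finset.sum_mul_sum]
    exact Finset.sum_congr rfl fun g _ => Finset.sum_congr rfl fun h _ => by ring
  have key : ∀ T : Finset (IrrCharacter G), ((∑ χ ∈ T, W χ * W' χ : ℤ) : ℂ) =
      ∑ g ∈ S, ∑ h ∈ S', f g * conj (f' h) * ∑ χ ∈ T, (χ : G → ℂ) g * conj ((χ : G → ℂ) h) := by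
    intro T
    rw [Int.cast_sum, Finset.sum_congr rfl fun χ _ => h1 χ, Finset.sum_comm]
    refine Finset.sum_congr rfl fun g _ => ?_
    rw [Finset.sum_comm]
    exact Finset.sum_congr rfl fun h _ => (Finset.mul_sum _ _ _).symm
  have h2 : (((Nat.card Z : ℤ) * ∑ χ ∈ ov Z c, W χ * W' χ : ℤ) : ℂ) = ((∑ χ, W χ * W' χ : ℤ) : ℂ) := by
    rw [Int.cast_mul, key, key, Finset.mul_sum]
    refine Finset.sum_congr rfl fun g hg => ?_
    rw [Finset.mul_sum]
    refine Finset.sum_congr rfl fun h hh => ?_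
    rw [← pair hZ c (hS g hg) (hS' h hh)]
    push_cast
    ring
  exact_mod_cast h2

theorem sum_eq {Z : Subgroup G} (hZ : Z ≤ center G) (c : Z →* ℂˣ) {W W' : IrrCharacter G → ℤ}
    (hW : Lin Z W) (hW' : Lin Z W') {s : ℤ} (h : ∑ χ, W χ * W' χ = Nat.card Z * s) :
    ∑ χ ∈ ov Z c, W χ * W' χ = s := by
  have h1 := hW.sum_mul hZ c hW'
  rw [h] at h1
  exact mul_left_cancel₀ (by exact_mod_cast Nat.card_pos.ne') h1

/-- the Sylow subgroup of a prime dividing `|G / Z|` once (helper849) -/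
theorem sylow_quot {p : ℕ} [hpF : Fact p.Prime] {Z : Subgroup G} [Z.Normal] (hZ : Z ≤ center G)
    (hZp : ¬ p ∣ Nat.card Z) (hsq : ¬ p ^ 2 ∣ Nat.card (G ⧸ Z)) {y : G ⧸ Z} (hy : orderOf y = p) {k w : ℕ}
    (hC : Nat.card (centralizer ({y} : Set (G ⧸ Z))) = p * k)
    (hN : Nat.card (normalizer ((zpowers y : Subgroup (G ⧸ Z)) : Set (G ⧸ Z))) = w * (p * k)) :
    ∃ (P : Sylow p G) (K : Subgroup G), Nat.card P = p ∧ IsComp p (P : Subgroup G) K ∧ Nat.card K = k * Nat.card Z ∧
      (centralizer ((P : Subgroup G) : Set G)).relIndex (normalizer ((P : Subgroup G) : Set G)) = w ∧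
      Nat.card (normalizer ((P : Subgroup G) : Set G)) = w * (p * k) * Nat.card Z := by
  classical
  have hp : p.Prime := Fact.out
  have hfin : Finite (IrrCharacter G) := finite_irr
  obtain ⟨u, rfl, hu⟩ := H849.RIM.exists_lift hZp hy
  -- the Sylow subgroup
  have hcG := card_eq_card_quotient_mul_card_subgroup Z
  have hG2 : ¬ p ^ 2 ∣ Nat.card G := by
    rw [hcG]
    intro h
    have hco : (p ^ 2).Coprime (Nat.card Z) := Nat.Coprime.pow_left 2 ((hp.coprime_iff_not_dvd).2 hZp)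
    exact hsq (hco.dvd_of_dvd_mul_right h)
  have hzp : IsPGroup p (zpowers u) := IsPGroup.of_card (n := 1) (by rw [Nat.card_zpowers, hu, pow_one])
  obtain ⟨P, hPle⟩ := hzp.exists_le_sylow
  have hP : Nat.card P = p := by
    obtain ⟨n, hn⟩ := (IsPGroup.iff_card).1 P.2
    have h1 : Nat.card P ∣ Nat.card G := card_subgroup_dvd_card _
    have h2 : n < 2 := by
      by_contra h3
      push Not at h3
      exact hG2 ((pow_dvd_pow p h3).trans (hn ▸ h1))
    have h3 : p ∣ Nat.card P := by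
      have := card_dvd_of_le hPle
      rwa [Nat.card_zpowers, hu] at this
    interval_cases n
    · rw [hn, pow_zero, Nat.dvd_one] at h3
      exact absurd h3 hp.one_lt.ne'
    · rw [hn, pow_one]
  have hPz : (P : Subgroup G) = zpowers u := by
    symm
    refine eq_of_le_of_card_ge hPle ?_
    rw [Nat.card_zpowers, hu]
    exact hP.le
  obtain ⟨K, hK⟩ := exists_isComp P hP
  have huP : u ∈ (P : Subgroup G) := hPle (mem_zpowers u)
  have hu1 : u ≠ 1 := by
    rintro rfl
    rw [orderOf_one] at hu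
    exact hp.one_lt.ne hu
  have hCP : centralizer ((P : Subgroup G) : Set G) = centralizer ({u} : Set G) :=
    (Blocks.CyclicOrtho.centralizer_eq P hP huP hu1).symm
  -- the centralizer
  have hcent : centralizer ((P : Subgroup G) : Set G) =
      (centralizer ({(u : G ⧸ Z)} : Set (G ⧸ Z))).comap (QuotientGroup.mk' Z) := by
    rw [hCP]
    ext x
    rw [mem_centralizer_singleton_iff, mem_comap, mem_centralizer_singleton_iff]
    constructor
    · intro h
      have := congrArg (QuotientGroup.mk' Z) h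
      simpa using this
    · intro h
      have h1 : (x : G ⧸ Z) * u * (x : G ⧸ Z)⁻¹ = (u : G ⧸ Z) ^ 1 := by
        have h2 : (x : G ⧸ Z) * u = u * x := h
        rw [h2, mul_inv_cancel_right, pow_one]
      have h2 := H849.RIM.comm_of_comm hZ hZp hu h1
      rw [pow_one, mul_inv_eq_iff_eq_mul] at h2
      exact h2
  have hnorm : normalizer ((P : Subgroup G) : Set G) =
      (normalizer ((zpowers (u : G ⧸ Z) : Subgroup (G ⧸ Z)) : Set (G ⧸ Z))).comap (QuotientGroup.mk' Z) := by
    have hPm : (P : Subgroup G).map (QuotientGroup.mk' Z) = zpowers (u : G ⧸ Z) := by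
      rw [hPz, MonoidHom.map_zpowers]
      rfl
    apply le_antisymm
    · intro x hx
      rw [mem_comap, ← hPm]
      exact Subgroup.le_normalizer_map _ (mem_map_of_mem _ hx)
    · intro x hx
      rw [mem_comap] at hx
      have h1 : (x : G ⧸ Z) * u * (x : G ⧸ Z)⁻¹ ∈ zpowers (u : G ⧸ Z) :=
        (mem_normalizer_iff.1 hx (u : G ⧸ Z)).1 (mem_zpowers _)
      obtain ⟨j, hj⟩ := mem_powers_iff_mem_zpowers.2 h1
      have h2 := H849.RIM.comm_of_comm hZ hZp hu (x := x) (j := j) hj.symm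
      refine mem_normalizer_fintype fun n hn => ?_
      have hn' : n ∈ zpowers u := by rw [← hPz]; exact hn
      obtain ⟨i, rfl⟩ := mem_powers_iff_mem_zpowers.2 hn'
      show x * u ^ i * x⁻¹ ∈ (P : Subgroup G)
      rw [← conj_pow, h2, hPz]
      exact pow_mem (pow_mem (mem_zpowers u) j) i
  have hcC : Nat.card (centralizer ((P : Subgroup G) : Set G)) = p * k * Nat.card Z := by
    rw [hcent, H849.RIM.card_comap, hC]
  have hcN : Nat.card (normalizer ((P : Subgroup G) : Set G)) = w * (p * k) * Nat.card Z := by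
    rw [hnorm, H849.RIM.card_comap, hN]
  have hcK : Nat.card K = k * Nat.card Z := by
    have h1 : Nat.card P * Nat.card K = Nat.card (centralizer ((P : Subgroup G) : Set G)) := by
      rw [← Nat.card_prod]
      exact Nat.card_congr (prodEquiv hK hP).toEquiv
    rw [hP, hcC, mul_assoc] at h1
    exact Nat.eq_of_mul_eq_mul_left hp.pos h1
  have hk0 : 0 < k := by
    rcases Nat.eq_zero_or_pos k with h | h
    · rw [h, zero_mul] at hcK
      exact absurd hcK Nat.card_pos.ne'
    · exact h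
  refine ⟨P, K, hP, hK, hcK, ?_, hcN⟩
  have h1 : centralizer ((P : Subgroup G) : Set G) ≤ normalizer ((P : Subgroup G) : Set G) :=
    centralizer_le_normalizer _
  have h2 := Subgroup.card_mul_index ((centralizer ((P : Subgroup G) : Set G)).subgroupOf
    (normalizer ((P : Subgroup G) : Set G)))
  rw [Nat.card_congr (subgroupOfEquivOfLe h1).toEquiv, hcC, hcN] at h2
  have h3 : 0 < p * k * Nat.card Z := Nat.mul_pos (Nat.mul_pos hp.pos hk0) Nat.card_pos
  rw [Subgroup.relIndex]
  apply Nat.eq_of_mul_eq_mul_left h3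
  rw [h2]
  ring

/-- **the column of a prime dividing `|G / Z|` once** -/
theorem exists_col {p : ℕ} [hpF : Fact p.Prime] {Z : Subgroup G} [Z.Normal] (hZ : Z ≤ center G)
    (hZp : ¬ p ∣ Nat.card Z) (hsq : ¬ p ^ 2 ∣ Nat.card (G ⧸ Z)) {y : G ⧸ Z} (hy : orderOf y = p) {k e t : ℕ}
    (hC : Nat.card (centralizer ({y} : Set (G ⧸ Z))) = p * k)
    (hN : Nat.card (normalizer ((zpowers y : Subgroup (G ⧸ Z)) : Set (G ⧸ Z))) = e * (p * k)) (ht : e * t = p - 1)
    {wl : List (ℕ × ℤ)} (hwl : wlOK p e t (k * Nat.card Z) wl = true) (c : Z →* ℂˣ) :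
    ∃ (P : Sylow p G) (W : IrrCharacter G → ℤ), Nat.card P = p ∧ IsCol (P : Subgroup G) e W ∧ Lin Z W ∧
      (∑ χ ∈ ov Z c, W χ * W χ = (t * p * k : ℕ)) ∧ (∑ χ ∈ ov Z c, (deg χ : ℤ) * W χ = 0) ∧
      ∀ χ : IrrCharacter G, (deg χ % p, W χ) ∈ wl := by
  obtain ⟨P, K, hP, hK, hcK, hw, hcN⟩ := sylow_quot hZ hZp hsq hy hC hN
  have he0 : e ≠ 0 := by
    rintro rfl
    have := hpF.out.two_le
    omega
  choose W hW hWv using exists_value hK hP hw ht
  have hcol : IsCol (P : Subgroup G) e W := hW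
  have hlin : Lin Z W := lin_col hZp hP he0 hcol
  refine ⟨P, W, hP, hcol, hlin, ?_, ?_, fun χ => ?_⟩
  · refine sum_eq hZ c hlin hlin ?_
    rw [hcol.sq hP (k := k * Nat.card Z) (by rw [hcN]; ring) ht]
    push_cast
    ring
  · refine sum_eq hZ c (lin_deg Z) hlin ?_
    rw [mul_zero, ← hcol.deg he0]
    exact Finset.sum_congr rfl fun χ _ => mul_comm _ _
  · have hd := hcol.dvd χ
    rw [show Nat.card ↥(P : Subgroup G) = p from hP] at hd
    have hv := hWv χ
    rw [hcK] at hv
    exact mem_wl hwl ht hd hv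

/-- the sum of the squares of the degrees -/
theorem sum_deg_sq {Z : Subgroup G} (hZ : Z ≤ center G) (c : Z →* ℂˣ) {N : ℕ} (hN : Nat.card G = Nat.card Z * N) :
    ∑ χ ∈ ov Z c, (deg χ : ℤ) * (deg χ : ℤ) = N := by
  refine sum_eq hZ c (lin_deg Z) (lin_deg Z) ?_
  have h1 := SmallSimple.DegreeData.sum_sq (G := G)
  rw [hN] at h1
  have h2 : ((∑ χ : IrrCharacter G, (charDegree (χ : G → ℂ)) ^ 2 : ℕ) : ℤ) = Nat.card Z * N := by
    rw [h1]; push_cast; ring
  rw [← h2]
  push_cast
  refine Finset.sum_congr rfl fun χ _ => ?_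
  simp only [deg]
  ring

end

end Cfsg.Agent.H535.RIM
end

-- part: H535/RIM/Ov2
section
/-!
# Columns over a linear character of a central subgroup, II (helper535, S4816)

* `isConj_of_quot` : elements of order prime to `|Z|` are conjugate if they are so modulo `Z`;
* `card_cent_quot` : `|C_G(u)| = |C_{G/Z}(u Z)| * |Z|`, `u` of prime order;
* `exists_val` : the column of a rational element of prime order;
* `eq_zero_of_isConj` : characters over `c` vanish at the elements `g` conjugate to `g z`, `c z ≠ 1`;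
* `sum_normSq` : `∑_{x ∈ H} |χ x| ^ 2` is divisible by `|H|`;
* `cross`, `cross_val` : the columns are orthogonal over `c`.
-/

set_option autoImplicit false
set_option linter.unusedSectionVars false

open Cfsg Subgroup
open scoped ComplexConjugate

namespace Cfsg.Agent.H535.RIM

open Cfsg.Agent.Characters.Core Cfsg.Agent.H622.Over Cfsg.Agent.H382.RIM
open Cfsg.Agent.H653.Sieve

universe u

variable {G : Type u} [Group G] [Finite G]

theorem isConj_of_quot {Z : Subgroup G} [Z.Normal] (hZ : Z ≤ center G) {g h : G}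
    (hg : (orderOf g).Coprime (Nat.card Z)) (hh : (orderOf h).Coprime (Nat.card Z))
    (hc : IsConj (g : G ⧸ Z) (h : G ⧸ Z)) : IsConj g h := by
  obtain ⟨x, hx⟩ := isConj_iff.1 hc
  obtain ⟨x, rfl⟩ := QuotientGroup.mk_surjective x
  have h1 : h⁻¹ * (x * g * x⁻¹) ∈ Z := by
    rw [← QuotientGroup.eq_one_iff, QuotientGroup.mk_mul, QuotientGroup.mk_inv, QuotientGroup.mk_mul,
      QuotientGroup.mk_mul, QuotientGroup.mk_inv, hx, inv_mul_cancel]
  obtain ⟨z, hz⟩ : ∃ z : G, z = h⁻¹ * (x * g * x⁻¹) := ⟨_, rfl⟩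
  rw [← hz] at h1
  have h2 : x * g * x⁻¹ = h * z := by rw [hz]; group
  have hcm : Commute h z := mem_center_iff.1 (hZ h1) h
  have h3 : (h * z) ^ (orderOf h * orderOf g) = 1 := by
    rw [← h2, conj_pow, mul_comm, pow_mul, pow_orderOf_eq_one, one_pow, mul_one, mul_inv_cancel]
  rw [hcm.mul_pow, pow_mul h, pow_orderOf_eq_one, one_pow, one_mul] at h3
  have h4 : (⟨z, h1⟩ : Z) ^ (orderOf h * orderOf g) = 1 := Subtype.ext h3
  have h5 : (⟨z, h1⟩ : Z) = 1 :=
    orderOf_eq_one_iff.1 (Nat.eq_one_of_dvd_coprimes (Nat.Coprime.mul_left hh hg) (orderOf_dvd_of_pow_eq_one h4)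
      (orderOf_dvd_natCard _))
  have h6 : z = 1 := congrArg Subtype.val h5
  rw [h6, mul_one] at h2
  exact isConj_iff.2 ⟨x, h2⟩

theorem card_cent_quot {p : ℕ} [hpF : Fact p.Prime] {Z : Subgroup G} [Z.Normal] (hZ : Z ≤ center G)
    (hZp : ¬ p ∣ Nat.card Z) {u : G} (hu : orderOf u = p) :
    Nat.card (centralizer ({u} : Set G)) = Nat.card (centralizer ({(u : G ⧸ Z)} : Set (G ⧸ Z))) * Nat.card Z := by
  rw [← H849.RIM.card_comap]
  congr 2
  ext x
  rw [mem_centralizer_singleton_iff, mem_comap, mem_centralizer_singleton_iff]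
  constructor
  · intro h
    have := congrArg (QuotientGroup.mk' Z) h
    simpa using this
  · intro h
    have h1 : (x : G ⧸ Z) * u * (x : G ⧸ Z)⁻¹ = (u : G ⧸ Z) ^ 1 := by
      have h2 : (x : G ⧸ Z) * u = u * x := h
      rw [h2, mul_inv_cancel_right, pow_one]
    have h2 := H849.RIM.comm_of_comm hZ hZp hu h1
    rw [pow_one, mul_inv_eq_iff_eq_mul] at h2
    exact h2

/-- the characters over `c` vanish at the elements conjugate to a multiple by `z`, `c z ≠ 1` -/
theorem eq_zero_of_isConj {Z : Subgroup G} {c : Z →* ℂˣ} {χ : IrrCharacter G} (hχ : Lies Z c (χ : G → ℂ)) {g : G} {z : Z}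
    (hz : c z ≠ 1) (h : IsConj g (g * z)) : (χ : G → ℂ) g = 0 := by
  have h1 : (χ : G → ℂ) g = (χ : G → ℂ) (g * z) := H894.J4Two.apply_eq_of_isConj χ.2 h
  rw [hχ g z] at h1
  have h2 : (χ : G → ℂ) g * (1 - (c z : ℂ)) = 0 := by linear_combination h1
  rcases mul_eq_zero.1 h2 with h3 | h3
  · exact h3
  · exact absurd (Units.ext (by rw [Units.val_one]; exact (sub_eq_zero.1 h3).symm)) hz

theorem sum_normSq {χ : G → ℂ} (hχ : IsCharacter G χ) (H : Subgroup G) [Fintype H] :
    ∃ m : ℕ, ∑ x : H, χ x * conj (χ x) = m * (Nat.card H : ℂ) := by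
  obtain ⟨m, hm⟩ := SmallSimple.TheoremBCor.exists_sum_eq (isCharacter_mul hχ (isCharacter_conj hχ)) H
  exact ⟨m, hm⟩

section

variable [Fintype (IrrCharacter G)]

/-- the column of a rational element of prime order -/
theorem exists_val {p : ℕ} [hpF : Fact p.Prime] {Z : Subgroup G} [Z.Normal] (hZ : Z ≤ center G)
    (hZp : ¬ p ∣ Nat.card Z) {y : G ⧸ Z} (hy : orderOf y = p) (hr : ∀ w ∈ zpowers y, w ≠ 1 → IsConj w y) (c : Z →* ℂˣ) :
    ∃ (u : G) (A : IrrCharacter G → ℤ), (u : G ⧸ Z) = y ∧ orderOf u = p ∧ IsCol (zpowers u) (p - 1) A ∧ Lin Z A ∧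
      (∀ χ : IrrCharacter G, (χ : G → ℂ) u = A χ) ∧
      (∑ χ ∈ ov Z c, A χ * A χ = (Nat.card (centralizer ({y} : Set (G ⧸ Z))) : ℤ)) ∧
      (∑ χ ∈ ov Z c, (deg χ : ℤ) * A χ = 0) := by
  have hp : p.Prime := Fact.out
  obtain ⟨u, rfl, hu⟩ := H849.RIM.exists_lift hZp hy
  have hcop : p.Coprime (Nat.card Z) := (hp.coprime_iff_not_dvd).2 hZp
  have hrat : ∀ w ∈ zpowers u, w ≠ 1 → IsConj w u := by
    intro w hw hw1
    have hwo : orderOf w = p := by
      have h1 : orderOf w ∣ p := by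
        rw [← hu]
        exact orderOf_dvd_of_mem_zpowers hw
      rcases (Nat.dvd_prime hp).1 h1 with h2 | h2
      · exact absurd (orderOf_eq_one_iff.1 h2) hw1
      · exact h2
    refine isConj_of_quot hZ (by rw [hwo]; exact hcop) (by rw [hu]; exact hcop) (hr _ ?_ ?_)
    · obtain ⟨k, rfl⟩ := mem_zpowers_iff.1 hw
      rw [QuotientGroup.mk_zpow]
      exact zpow_mem (mem_zpowers _) k
    · intro h
      rw [QuotientGroup.eq_one_iff] at h
      have h3 : orderOf (⟨w, h⟩ : Z) ∣ Nat.card Z := orderOf_dvd_natCard _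
      rw [← orderOf_coe, Subgroup.coe_mk, hwo] at h3
      exact hZp h3
  obtain ⟨A, hA, hv, hs⟩ := H894.J4Two.exists_col_rat hp hu hrat
  have hlin : Lin Z A := lin_val (by rw [hu]; exact hcop) hv
  refine ⟨u, A, rfl, hu, hA, hlin, hv, ?_, ?_⟩
  · refine sum_eq hZ c hlin hlin ?_
    rw [hs, card_cent_quot hZ hZp hu]
    push_cast
    ring
  · refine sum_eq hZ c (lin_deg Z) hlin ?_
    rw [mul_zero, ← hA.deg (Nat.sub_ne_zero_of_lt hp.one_lt)]
    exact Finset.sum_congr rfl fun χ _ => mul_comm _ _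

/-- columns of different primes -/
theorem cross {Z : Subgroup G} (hZ : Z ≤ center G) (c : Z →* ℂˣ) {H K : Subgroup G} {e f p q : ℕ} (hp : p.Prime)
    (hq : q.Prime) (hpq : p ≠ q) (hH : Nat.card H = p) (hK : Nat.card K = q) {W W' : IrrCharacter G → ℤ}
    (hW : IsCol H e W) (hW' : IsCol K f W') (he : e ≠ 0) (hf : f ≠ 0) (hl : Lin Z W) (hl' : Lin Z W') :
    ∑ χ ∈ ov Z c, W χ * W' χ = 0 := by
  refine sum_eq hZ c hl hl' ?_
  rw [mul_zero]
  exact hW.orth hW' he hf (H894.J4Two.nc_of_card hp hq hpq hH hK)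

end

end Cfsg.Agent.H535.RIM
end
end
end
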